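import Mathlib
import Groth.Agent.Lib.Helper16.Mero.GenPt
import Groth.Agent.Lib.Helper3.AffinePoints
import Groth.Agent.Lib.Helper3.BlowUpBasic
import Groth.Agent.Lib.Helper12.DiagRank

/-!
# Points, primes and local dimensions (helper16)
-/

set_option autoImplicit false
universe u
open CategoryTheory CategoryTheory.Limits AlgebraicGeometry TopologicalSpace Opposite

namespace H16CartSum
open Groth.Agent.Lib.Helper3

variable {X : Scheme.{u}}

/-- Every prime of `Γ(X, U)` comes from a point of the affine open `U`. -/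
theorem exists_primeIdealOf_eq {U : X.Opens} (hU : IsAffineOpen U) (q : PrimeSpectrum Γ(X, U)) :
    ∃ x, ∃ hx : x ∈ U, hU.primeIdealOf ⟨x, hx⟩ = q := by
  have hmem : hU.fromSpec q ∈ U := by
    have : hU.fromSpec q ∈ Set.range hU.fromSpec := ⟨q, rfl⟩
    rw [hU.range_fromSpec] at this
    exact this
  refine ⟨hU.fromSpec q, hmem, ?_⟩
  apply hU.fromSpec.isOpenEmbedding.injective
  rw [hU.fromSpec_primeIdealOf]

/-- An ideal sheaf whose support misses an affine open is the unit ideal there. -/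
theorem ideal_eq_top_of_disjoint (𝓘 : X.IdealSheafData) (W : X.affineOpens)
    (h : ∀ x ∈ W.1, x ∉ 𝓘.support) : 𝓘.ideal W = ⊤ := by
  by_contra hne
  obtain ⟨m, hm, hle⟩ := Ideal.exists_le_maximal _ hne
  obtain ⟨x, hx, hq⟩ := exists_primeIdealOf_eq W.2 ⟨m, hm.isPrime⟩
  apply h x hx
  rw [mem_support_iff_le_primeIdealOf 𝓘 W x hx, hq]
  exact hle

theorem ringKrullDim_stalk_eq_height {U : X.Opens} (hU : IsAffineOpen U) (x : X) (hx : x ∈ U) :
    ringKrullDim (X.presheaf.stalk x) = ((hU.primeIdealOf ⟨x, hx⟩).asIdeal.height : WithBot ℕ∞) := by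
  letI := X.presheaf.algebra_section_stalk ⟨x, hx⟩
  haveI := hU.isLocalization_stalk ⟨x, hx⟩
  exact IsLocalization.AtPrime.ringKrullDim_eq_height (hU.primeIdealOf ⟨x, hx⟩).asIdeal
    (X.presheaf.stalk x)

theorem ringKrullDim_stalk_mono {z' z : X} (h : z' ⤳ z) :
    ringKrullDim (X.presheaf.stalk z') ≤ ringKrullDim (X.presheaf.stalk z) := by
  obtain ⟨_, ⟨U, hU : IsAffineOpen U, rfl⟩, hzU, -⟩ :=
    X.isBasis_affineOpens.exists_subset_of_mem_open (Set.mem_univ z) isOpen_univ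
  have hz'U : z' ∈ U := h.mem_open U.2 hzU
  rw [ringKrullDim_stalk_eq_height hU z' hz'U, ringKrullDim_stalk_eq_height hU z hzU]
  exact WithBot.coe_le_coe.mpr
    (Ideal.height_mono ((primeIdealOf_le_iff_specializes hU z' z hz'U hzU).mpr h))

theorem not_two_le_of_maximal (η : X) (hη : ∀ y : X, y ⤳ η → y = η) :
    ¬ (2 : WithBot ℕ∞) ≤ ringKrullDim (X.presheaf.stalk η) := by
  obtain ⟨_, ⟨U, hU : IsAffineOpen U, rfl⟩, hηU, -⟩ :=
    X.isBasis_affineOpens.exists_subset_of_mem_open (Set.mem_univ η) isOpen_univ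
  rw [ringKrullDim_stalk_eq_height hU η hηU]
  have hmin := primeIdealOf_mem_minimalPrimes hU η hηU hη
  rw [Ideal.height_eq_zero_iff.mpr hmin]
  intro h
  have h1 : ((2 : ℕ∞) : WithBot ℕ∞) ≤ ((0 : ℕ∞) : WithBot ℕ∞) := h
  have h2 : (2 : ℕ∞) ≤ 0 := WithBot.coe_le_coe.mp h1
  simp at h2

theorem two_le_of_specializes_ne {ξ z : X} (hξz : ξ ⤳ z) (hne : ξ ≠ z) {U : X.Opens}
    (hU : IsAffineOpen U) (hzU : z ∈ U) (hξU : ξ ∈ U) (f : Γ(X, U)) (hf : f ∈ nonZeroDivisors Γ(X, U))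
    (hfξ : f ∈ (hU.primeIdealOf ⟨ξ, hξU⟩).asIdeal) :
    (2 : WithBot ℕ∞) ≤ ringKrullDim (X.presheaf.stalk z) := by
  rw [ringKrullDim_stalk_eq_height hU z hzU]
  have hlt : (hU.primeIdealOf ⟨ξ, hξU⟩).asIdeal < (hU.primeIdealOf ⟨z, hzU⟩).asIdeal := by
    refine lt_of_le_of_ne ((primeIdealOf_le_iff_specializes hU ξ z hξU hzU).mpr hξz) ?_
    intro h
    exact hne (H16Mero.primeIdealOf_injective hU hξU hzU (PrimeSpectrum.ext h))
  have h1 := Ideal.height_add_one_le_of_lt_of_isPrime hlt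
  have h0 : (hU.primeIdealOf ⟨ξ, hξU⟩).asIdeal.height ≠ 0 := by
    intro h
    exact notMem_nonZeroDivisors_of_mem_mem_minimalPrimes hfξ (Ideal.height_eq_zero_iff.mp h) hf
  have h2 : (1 : ℕ∞) ≤ (hU.primeIdealOf ⟨ξ, hξU⟩).asIdeal.height :=
    Order.one_le_iff_pos.mpr (pos_iff_ne_zero.mpr h0)
  have h3 : (2 : ℕ∞) ≤ (hU.primeIdealOf ⟨z, hzU⟩).asIdeal.height := by
    calc (2 : ℕ∞) = 1 + 1 := by norm_num
      _ ≤ (hU.primeIdealOf ⟨ξ, hξU⟩).asIdeal.height + 1 := by gcongr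
      _ ≤ _ := h1
  have h4 : ((2 : ℕ∞) : WithBot ℕ∞) ≤ ((hU.primeIdealOf ⟨z, hzU⟩).asIdeal.height : WithBot ℕ∞) :=
    WithBot.coe_le_coe.mpr h3
  exact h4

/-- Maximal generization inside a closed subset. -/
theorem exists_maximal_generization_in {Z : Set X} (hZ : IsClosed Z) {z : X} (hz : z ∈ Z) :
    ∃ z' ∈ Z, z' ⤳ z ∧ ∀ y ∈ Z, y ⤳ z' → y = z' := by
  haveI : QuasiSober ↥Z := hZ.isClosedEmbedding_subtypeVal.quasiSober
  obtain ⟨η, hη1, hη2⟩ :=
    Groth.Agent.Lib.Helper12.DiagRank.exists_maximal_generization (⟨z, hz⟩ : ↥Z)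
  refine ⟨η.1, η.2, ?_, fun y hy hyη => ?_⟩
  · exact (Topology.IsInducing.subtypeVal.specializes_iff).mpr hη1
  · have := hη2 ⟨y, hy⟩ ((Topology.IsInducing.subtypeVal.specializes_iff).mp hyη)
    exact congrArg Subtype.val this

/-- A closed subset of a Noetherian sober space has finitely many maximal points. -/
theorem finite_maximal_points [NoetherianSpace X] {Z : Set X} (hZ : IsClosed Z) :
    {ξ : X | ξ ∈ Z ∧ ∀ y ∈ Z, y ⤳ ξ → y = ξ}.Finite := by
  obtain ⟨S, hSf, hSc, hSi, hSU⟩ := NoetherianSpace.exists_finite_set_isClosed_irreducible hZ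
  have hsub : {ξ : X | ξ ∈ Z ∧ ∀ y ∈ Z, y ⤳ ξ → y = ξ} ⊆ ⋃ t ∈ S, {x : X | IsGenericPoint x t} := by
    rintro ξ ⟨hξZ, hξmax⟩
    rw [hSU] at hξZ
    obtain ⟨t, htS, hξt⟩ := hξZ
    have hg := (hSi t htS).isGenericPoint_genericPoint (hSc t htS)
    have hgt : (hSi t htS).genericPoint ∈ t := hg.mem
    have hgZ : (hSi t htS).genericPoint ∈ Z := by
      rw [hSU]; exact ⟨t, htS, hgt⟩
    have hspec : (hSi t htS).genericPoint ⤳ ξ := by
      rw [specializes_iff_mem_closure, hg.def]; exact hξt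
    have := hξmax _ hgZ hspec
    refine Set.mem_biUnion htS ?_
    show IsGenericPoint ξ t
    rw [← this]; exact hg
  refine (hSf.biUnion fun t _ => ?_).subset hsub
  apply Set.Subsingleton.finite
  intro x hx y hy
  exact IsGenericPoint.eq hx hy

end H16CartSum
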