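import Mathlib

/-!
# Ring lemmas on principal prime ideals generated by nonzerodivisors (helper16)
-/

set_option autoImplicit false

namespace H16CartSum

variable {R : Type*} [CommRing R]

/-- If `(f)` is prime, `f` a nonzerodivisor, `t ∉ (f)` and `f ^ n ∣ t * g` then `f ^ n ∣ g`. -/
theorem pow_dvd_of_pow_dvd_mul (f : R) (hf : f ∈ nonZeroDivisors R)
    (hp : (Ideal.span {f}).IsPrime) (t : R) (ht : t ∉ Ideal.span {f}) (n : ℕ) (g : R)
    (h : f ^ n ∣ t * g) : f ^ n ∣ g := by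
  induction n generalizing g with
  | zero => simp
  | succ n ih =>
    have h1 : f ∣ t * g := dvd_trans (dvd_pow_self f (Nat.succ_ne_zero n)) h
    have h2 : t * g ∈ Ideal.span {f} := Ideal.mem_span_singleton.mpr h1
    rcases hp.mem_or_mem h2 with h3 | h3
    · exact absurd h3 ht
    · obtain ⟨g', rfl⟩ := Ideal.mem_span_singleton.mp h3
      obtain ⟨c, hc⟩ := h
      have h4 : f * (t * g' - f ^ n * c) = 0 := by
        rw [pow_succ] at hc
        linear_combination hc
      have h5 : t * g' - f ^ n * c = 0 := (mem_nonZeroDivisors_iff.1 hf).1 _ h4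
      have h6 : f ^ n ∣ t * g' := ⟨c, sub_eq_zero.mp h5⟩
      obtain ⟨d, hd⟩ := ih g' h6
      exact ⟨d, by rw [hd, pow_succ]; ring⟩

theorem mul_pow_dvd (f : R) (hf : f ∈ nonZeroDivisors R) (hp : (Ideal.span {f}).IsPrime)
    (F : R) (hF : F ∉ Ideal.span {f}) (n : ℕ) (x : R) (h1 : F ∣ x) (h2 : f ^ n ∣ x) :
    F * f ^ n ∣ x := by
  obtain ⟨a, rfl⟩ := h1
  obtain ⟨b, hb⟩ := pow_dvd_of_pow_dvd_mul f hf hp F hF n a h2
  exact ⟨b, by rw [hb]; ring⟩

/-- Krull intersection: if `J ⊆ (f)^N` for all `N` then `J` lies in every prime below `(f)`. -/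
theorem le_of_forall_le_pow [IsNoetherianRing R] (f : R) (hne : Ideal.span {f} ≠ ⊤)
    (J : Ideal R) (hJ : ∀ N : ℕ, J ≤ Ideal.span {f} ^ N) (q : Ideal R) [hq' : q.IsPrime]
    (hq : q ≤ Ideal.span {f}) : J ≤ q := by
  intro g hg
  have h1 : g ∈ (⨅ i : ℕ, (Ideal.span {f}) ^ i • ⊤ : Submodule R R) := by
    rw [Submodule.mem_iInf]
    intro i
    have := hJ i hg
    simpa using this
  obtain ⟨r, hr⟩ := (Ideal.mem_iInf_smul_pow_eq_bot_iff (Ideal.span {f}) g).mp h1
  have h2 : (1 - (r : R)) * g = 0 := by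
    have : (r : R) * g = g := hr
    rw [sub_mul, one_mul, this, sub_self]
  have h3 : (1 - (r : R)) * g ∈ q := h2 ▸ q.zero_mem
  rcases hq'.mem_or_mem h3 with h4 | h4
  · exfalso
    apply hne
    rw [Ideal.eq_top_iff_one]
    have : (1 : R) = (1 - r) + r := by ring
    rw [this]
    exact add_mem (hq h4) r.2
  · exact h4

theorem exists_notMem_mul_pow_mem (f : R) (J : Ideal R) (n : ℕ)
    (h1 : J ≤ Ideal.span {f ^ n}) (h2 : ¬ J ≤ Ideal.span {f ^ (n + 1)}) :
    ∃ s, s ∉ Ideal.span {f} ∧ s * f ^ n ∈ J := by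
  by_contra hcon
  push_neg at hcon
  apply h2
  intro g hg
  obtain ⟨h, rfl⟩ := Ideal.mem_span_singleton'.mp (h1 hg)
  have hh : h ∈ Ideal.span {f} := by
    by_contra hh
    exact hcon h hh hg
  obtain ⟨c, rfl⟩ := Ideal.mem_span_singleton'.mp hh
  exact Ideal.mem_span_singleton'.mpr ⟨c, by ring⟩

theorem span_eq_of_mem (f f' : R) (hf' : f' ∈ nonZeroDivisors R)
    (hp : (Ideal.span {f}).IsPrime) (hp' : (Ideal.span {f'}).IsPrime)
    (h : f' ∈ Ideal.span {f}) : Ideal.span {f} = Ideal.span {f'} := by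
  obtain ⟨c, hc⟩ := Ideal.mem_span_singleton'.mp h
  have h1 : c * f ∈ Ideal.span {f'} := hc ▸ Ideal.mem_span_singleton_self f'
  rcases hp'.mem_or_mem h1 with h2 | h2
  · exfalso
    obtain ⟨c', hc'⟩ := Ideal.mem_span_singleton'.mp h2
    have h3 : f' * (1 - c' * f) = 0 := by
      linear_combination (-1 : R) * hc - f * hc'
    have h4 : 1 - c' * f = 0 := (mem_nonZeroDivisors_iff.1 hf').1 _ h3
    apply hp.ne_top
    rw [Ideal.eq_top_iff_one]
    have : (1 : R) = c' * f := by linear_combination h4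
    rw [this]
    exact Ideal.mul_mem_left _ _ (Ideal.mem_span_singleton_self f)
  · apply le_antisymm
    · rw [Ideal.span_singleton_le_iff_mem]; exact h2
    · rw [Ideal.span_singleton_le_iff_mem]; exact h

end H16CartSum
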