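import Mathlib
import Groth.Agent.Lib.Helper16.CartSum.Ring
import Groth.Agent.Lib.Helper16.CartSum.Points
import Groth.Agent.Lib.Helper17.ColonIdeal

/-!
# Integral effective Cartier divisors: generic points, local primality, valuations (helper16)
-/

set_option autoImplicit false
universe u
open CategoryTheory CategoryTheory.Limits AlgebraicGeometry TopologicalSpace Opposite

namespace H16CartSum
open Groth.Agent.Lib.Helper3 Groth.Agent.Lib.Helper17.AdmBlowup Groth.Agent.Lib.Helper17.ColonIdeal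

variable {X : Scheme.{u}}

/-- The generic point of an integral closed subscheme, as a point of `X`. -/
noncomputable def gp (𝔡 : X.IdealSheafData) [IsIntegral 𝔡.subscheme] : X :=
  𝔡.subschemeι (genericPoint 𝔡.subscheme)

theorem gp_congr {𝔡 𝔢 : X.IdealSheafData} [IsIntegral 𝔡.subscheme] [IsIntegral 𝔢.subscheme]
    (h : 𝔡 = 𝔢) : gp 𝔡 = gp 𝔢 := by
  subst h; rfl

theorem mem_support_iff_gp_specializes (𝔡 : X.IdealSheafData) [IsIntegral 𝔡.subscheme] (x : X) :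
    x ∈ 𝔡.support ↔ gp 𝔡 ⤳ x := by
  have hcl : closure {gp 𝔡} = (𝔡.support : Set X) := by
    have h1 := 𝔡.subschemeι.isClosedEmbedding.closure_image_eq {genericPoint 𝔡.subscheme}
    rw [Set.image_singleton, genericPoint_closure, Set.image_univ,
      Scheme.IdealSheafData.range_subschemeι] at h1
    exact h1
  rw [specializes_iff_mem_closure, hcl]
  rfl

theorem gp_mem_support (𝔡 : X.IdealSheafData) [IsIntegral 𝔡.subscheme] : gp 𝔡 ∈ 𝔡.support :=
  (mem_support_iff_gp_specializes 𝔡 _).mpr specializes_rfl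

theorem isPrime_ideal_of_gp_mem (𝔡 : X.IdealSheafData) [IsIntegral 𝔡.subscheme]
    (W : X.affineOpens) (h : gp 𝔡 ∈ W.1) : (𝔡.ideal W).IsPrime := by
  haveI : IsDomain Γ(𝔡.subscheme, 𝔡.subschemeι ⁻¹ᵁ W.1) :=
    @IsIntegral.component_integral _ _ (𝔡.subschemeι ⁻¹ᵁ W.1) ⟨⟨genericPoint 𝔡.subscheme, h⟩⟩
  have e := (𝔡.subschemeObjIso W).commRingCatIsoToRingEquiv
  haveI : IsDomain (Γ(X, W.1) ⧸ 𝔡.ideal W) := e.symm.toMulEquiv.isDomain
  exact (Ideal.Quotient.isDomain_iff_prime _).mp this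

theorem ideal_eq_primeIdealOf (𝔡 : X.IdealSheafData) [IsIntegral 𝔡.subscheme]
    (W : X.affineOpens) (x : X) (hx : x ∈ W.1) (hgp : gp 𝔡 = x) :
    𝔡.ideal W = (W.2.primeIdealOf ⟨x, hx⟩).asIdeal := by
  subst hgp
  apply le_antisymm
  · exact (mem_support_iff_le_primeIdealOf 𝔡 W _ hx).mp (gp_mem_support 𝔡)
  · haveI := isPrime_ideal_of_gp_mem 𝔡 W hx
    obtain ⟨y, hy, hq⟩ := exists_primeIdealOf_eq W.2 ⟨𝔡.ideal W, inferInstance⟩
    have hysupp : y ∈ 𝔡.support := by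
      rw [mem_support_iff_le_primeIdealOf 𝔡 W y hy, hq]
    have hspec := (mem_support_iff_gp_specializes 𝔡 y).mp hysupp
    have := (primeIdealOf_le_iff_specializes W.2 _ y hx hy).mpr hspec
    rw [hq] at this
    exact this

theorem ideal_eq_top_of_gp_notMem (𝔡 : X.IdealSheafData) [IsIntegral 𝔡.subscheme]
    (W : X.affineOpens) (h : gp 𝔡 ∉ W.1) : 𝔡.ideal W = ⊤ := by
  apply ideal_eq_top_of_disjoint
  intro x hx hsupp
  exact h (((mem_support_iff_gp_specializes 𝔡 x).mp hsupp).mem_open W.1.2 hx)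

/-! ### Charts -/

theorem exists_chart₂ (P Q : X.IdealSheafData) (hP : BlowUp.IsEffCartierIdeal P)
    (hQ : BlowUp.IsEffCartierIdeal Q) (x : X) :
    ∃ W : X.affineOpens, x ∈ W.1 ∧ ∃ F G : Γ(X, W.1), F ∈ nonZeroDivisors Γ(X, W.1) ∧
      G ∈ nonZeroDivisors Γ(X, W.1) ∧ P.ideal W = Ideal.span {F} ∧ Q.ideal W = Ideal.span {G} := by
  obtain ⟨V1, hx1, H1⟩ := exists_forall_le_of_isEffCartierIdeal hP x
  obtain ⟨V2, hx2, H2⟩ := exists_forall_le_of_isEffCartierIdeal hQ x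
  obtain ⟨W, hW, hxW, hWle⟩ := exists_isAffineOpen_mem_and_subset (x := x) (U := V1 ⊓ V2) ⟨hx1, hx2⟩
  obtain ⟨F, hF, hFW⟩ := H1 ⟨W, hW⟩ (fun y hy => (hWle hy).1)
  obtain ⟨G, hG, hGW⟩ := H2 ⟨W, hW⟩ (fun y hy => (hWle hy).2)
  exact ⟨⟨W, hW⟩, hxW, F, G, hF, hG, hFW, hGW⟩

theorem isEffCartierIdeal_mul (P Q : X.IdealSheafData) (hP : BlowUp.IsEffCartierIdeal P)
    (hQ : BlowUp.IsEffCartierIdeal Q) : BlowUp.IsEffCartierIdeal (P * Q) := by
  intro x
  obtain ⟨W, hxW, F, G, hF, hG, hFW, hGW⟩ := exists_chart₂ P Q hP hQ x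
  refine ⟨W, hxW, F * G, mul_mem hF hG, ?_⟩
  show P.ideal W * Q.ideal W = _
  rw [hFW, hGW, Ideal.span_singleton_mul_span_singleton]

theorem isEffCartierIdeal_one : BlowUp.IsEffCartierIdeal (1 : X.IdealSheafData) :=
  isEffCartierIdeal_top

theorem isEffCartierIdeal_pow (P : X.IdealSheafData) (hP : BlowUp.IsEffCartierIdeal P) (n : ℕ) :
    BlowUp.IsEffCartierIdeal (P ^ n) := by
  induction n with
  | zero => rw [pow_zero]; exact isEffCartierIdeal_one
  | succ n ih => rw [pow_succ]; exact isEffCartierIdeal_mul _ _ ih hP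

theorem isEffCartierIdeal_finset_prod {ι : Type*} (T : Finset ι) (g : ι → X.IdealSheafData)
    (hg : ∀ i ∈ T, BlowUp.IsEffCartierIdeal (g i)) : BlowUp.IsEffCartierIdeal (∏ i ∈ T, g i) :=
  Finset.prod_induction g _ (fun a b ha hb => isEffCartierIdeal_mul a b ha hb)
    isEffCartierIdeal_one hg

/-! ### Supports of products -/

theorem notMem_support_mul {P Q : X.IdealSheafData} {x : X} (hP : x ∉ P.support)
    (hQ : x ∉ Q.support) : x ∉ (P * Q).support := by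
  rw [Scheme.IdealSheafData.support_mul]
  intro h
  rcases h with h | h
  · exact hP h
  · exact hQ h

theorem notMem_support_one (x : X) : x ∉ (1 : X.IdealSheafData).support := by
  show x ∉ (⊤ : X.IdealSheafData).support
  rw [Scheme.IdealSheafData.support_top]
  exact fun h => h

theorem notMem_support_pow {P : X.IdealSheafData} {x : X} (hP : x ∉ P.support) (n : ℕ) :
    x ∉ (P ^ n).support := by
  induction n with
  | zero => rw [pow_zero]; exact notMem_support_one x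
  | succ n ih => rw [pow_succ]; exact notMem_support_mul ih hP

theorem notMem_support_finset_prod {ι : Type*} (T : Finset ι) (g : ι → X.IdealSheafData) {x : X}
    (hg : ∀ i ∈ T, x ∉ (g i).support) : x ∉ (∏ i ∈ T, g i).support :=
  Finset.prod_induction g (fun I => x ∉ I.support) (fun _ _ ha hb => notMem_support_mul ha hb)
    (notMem_support_one x) hg

/-! ### Two integral effective Cartier divisors through the same generic point coincide -/

theorem eq_of_gp_mem_support (𝔡 𝔢 : X.IdealSheafData) [IsIntegral 𝔡.subscheme]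
    [IsIntegral 𝔢.subscheme] (h𝔡 : BlowUp.IsEffCartierIdeal 𝔡) (h𝔢 : BlowUp.IsEffCartierIdeal 𝔢)
    (h : gp 𝔢 ∈ 𝔡.support) : 𝔡 = 𝔢 := by
  have hgp : gp 𝔡 = gp 𝔢 := by
    obtain ⟨W, hξW, f', f, hf', hf, hf'W, hfW⟩ := exists_chart₂ 𝔡 𝔢 h𝔡 h𝔢 (gp 𝔢)
    have hspec := (mem_support_iff_gp_specializes 𝔡 _).mp h
    have hξ'W : gp 𝔡 ∈ W.1 := hspec.mem_open W.1.2 hξW
    have hp' := isPrime_ideal_of_gp_mem 𝔡 W hξ'W
    have hp := isPrime_ideal_of_gp_mem 𝔢 W hξW
    have e1 := ideal_eq_primeIdealOf 𝔡 W _ hξ'W rfl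
    have e2 := ideal_eq_primeIdealOf 𝔢 W _ hξW rfl
    have hle : 𝔡.ideal W ≤ 𝔢.ideal W := by
      rw [e2]; exact (mem_support_iff_le_primeIdealOf 𝔡 W _ hξW).mp h
    rw [hf'W] at hp'
    rw [hfW] at hp
    rw [hf'W, hfW] at hle
    have hmem : f' ∈ Ideal.span {f} := hle (Ideal.mem_span_singleton_self f')
    have heq := span_eq_of_mem f f' hf' hp hp' hmem
    have : (W.2.primeIdealOf ⟨gp 𝔡, hξ'W⟩).asIdeal = (W.2.primeIdealOf ⟨gp 𝔢, hξW⟩).asIdeal := by
      rw [← e1, ← e2, hf'W, hfW, heq]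
    exact H16Mero.primeIdealOf_injective W.2 hξ'W hξW (PrimeSpectrum.ext this)
  apply Scheme.IdealSheafData.ext
  funext W
  by_cases hW : gp 𝔢 ∈ W.1
  · rw [ideal_eq_primeIdealOf 𝔡 W _ hW hgp, ideal_eq_primeIdealOf 𝔢 W _ hW rfl]
  · rw [ideal_eq_top_of_gp_notMem 𝔢 W hW, ideal_eq_top_of_gp_notMem 𝔡 W (hgp ▸ hW)]

/-! ### Coprime products -/

theorem le_mul_pow (𝓩 P 𝔢 : X.IdealSheafData) [IsIntegral 𝔢.subscheme]
    (hP : BlowUp.IsEffCartierIdeal P) (h𝔢 : BlowUp.IsEffCartierIdeal 𝔢)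
    (hgp : gp 𝔢 ∉ P.support) (n : ℕ) (h1 : 𝓩 ≤ P) (h2 : 𝓩 ≤ 𝔢 ^ n) : 𝓩 ≤ P * 𝔢 ^ n := by
  have hc := fun x => exists_chart₂ P 𝔢 hP h𝔢 x
  choose W hxW F f hF hf hFW hfW using hc
  have hcov : ⨆ x, (W x).1 = ⊤ := by
    rw [eq_top_iff]
    intro x _
    exact Opens.mem_iSup.2 ⟨x, hxW x⟩
  refine Scheme.IdealSheafData.le_of_iSup_eq_top W hcov (fun x => ?_)
  intro g hg
  have hg1 : F x ∣ g := by
    have := h1 (W x) hg
    rw [hFW] at this
    exact Ideal.mem_span_singleton.mp this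
  have hg2 : f x ^ n ∣ g := by
    have := h2 (W x) hg
    have e : (𝔢 ^ n).ideal (W x) = Ideal.span {f x ^ n} := by
      show (𝔢.ideal (W x)) ^ n = _
      rw [hfW, Ideal.span_singleton_pow]
    rw [e] at this
    exact Ideal.mem_span_singleton.mp this
  have hgoal : (P * 𝔢 ^ n).ideal (W x) = Ideal.span {F x * f x ^ n} := by
    show P.ideal (W x) * (𝔢.ideal (W x)) ^ n = _
    rw [hFW, hfW, Ideal.span_singleton_pow, Ideal.span_singleton_mul_span_singleton]
  rw [hgoal, Ideal.mem_span_singleton]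
  by_cases hξ : gp 𝔢 ∈ (W x).1
  · have hp := isPrime_ideal_of_gp_mem 𝔢 (W x) hξ
    have e2 := ideal_eq_primeIdealOf 𝔢 (W x) _ hξ rfl
    rw [hfW] at hp e2
    have hFn : F x ∉ Ideal.span {f x} := by
      intro hmem
      apply hgp
      rw [mem_support_iff_le_primeIdealOf P (W x) _ hξ, hFW, ← e2,
        Ideal.span_singleton_le_iff_mem]
      exact hmem
    exact mul_pow_dvd (f x) (hf x) hp (F x) hFn n g hg1 hg2
  · have htop := ideal_eq_top_of_gp_notMem 𝔢 (W x) hξ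
    rw [hfW, Ideal.span_singleton_eq_top] at htop
    exact ((htop.pow n).mul_right_dvd).mpr hg1

end H16CartSum
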