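import Mathlib
import Groth.Agent.Lib.Helper16.CartSum.Cartier

/-!
# Sums of integral effective Cartier divisors inside a closed subscheme (helper16)
-/

set_option autoImplicit false
universe u
open CategoryTheory CategoryTheory.Limits AlgebraicGeometry TopologicalSpace Opposite

namespace H16CartSum
open Groth.Agent.Lib.Helper3 Groth.Agent.Lib.Helper17.AdmBlowup Groth.Agent.Lib.Helper17.ColonIdeal

variable {X : Scheme.{u}}

/-- The order of vanishing of an ideal sheaf along an integral effective Cartier divisor, with a local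
witness of maximality at the generic point. -/
theorem exists_val (𝓩 𝔢 : X.IdealSheafData) [IsLocallyNoetherian X] [IsIntegral 𝔢.subscheme]
    (h𝔢 : BlowUp.IsEffCartierIdeal 𝔢)
    (hZ : ∀ η : X, (∀ y : X, y ⤳ η → y = η) → η ∉ 𝓩.support) :
    ∃ v : ℕ, 𝓩 ≤ 𝔢 ^ v ∧ ∃ (W : X.affineOpens) (f : Γ(X, W.1)), gp 𝔢 ∈ W.1 ∧
      f ∈ nonZeroDivisors Γ(X, W.1) ∧ 𝔢.ideal W = Ideal.span {f} ∧
      ∃ s, s ∉ Ideal.span {f} ∧ s * f ^ v ∈ 𝓩.ideal W := by
  have hbdd : ∃ N, ¬ 𝓩 ≤ 𝔢 ^ N := by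
    by_contra hcon
    push_neg at hcon
    obtain ⟨W, hξW, f, hf, hfW⟩ := h𝔢 (gp 𝔢)
    haveI : IsNoetherianRing Γ(X, W.1) := IsLocallyNoetherian.component_noetherian W
    have hp := isPrime_ideal_of_gp_mem 𝔢 W hξW
    rw [hfW] at hp
    obtain ⟨q, hqmin, hqle⟩ :=
      Ideal.exists_minimalPrimes_le (I := (⊥ : Ideal Γ(X, W.1))) (J := Ideal.span {f}) bot_le
    haveI hqprime : q.IsPrime := hqmin.1.1
    have hJ : ∀ N : ℕ, 𝓩.ideal W ≤ Ideal.span {f} ^ N := by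
      intro N
      have := hcon N W
      rw [← hfW]
      exact this
    have hle := le_of_forall_le_pow f hp.ne_top (𝓩.ideal W) hJ q hqle
    obtain ⟨η, hηW, hηq⟩ := exists_primeIdealOf_eq W.2 ⟨q, hqprime⟩
    have hηq' : (W.2.primeIdealOf ⟨η, hηW⟩).asIdeal = q := congrArg PrimeSpectrum.asIdeal hηq
    refine hZ η ?_ ?_
    · intro y hy
      have hyW : y ∈ W.1 := hy.mem_open W.1.2 hηW
      have h1 := (primeIdealOf_le_iff_specializes W.2 y η hyW hηW).mpr hy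
      rw [hηq'] at h1
      have h2 : q ≤ (W.2.primeIdealOf ⟨y, hyW⟩).asIdeal :=
        hqmin.2 ⟨(W.2.primeIdealOf ⟨y, hyW⟩).2, bot_le⟩ h1
      apply H16Mero.primeIdealOf_injective W.2 hyW hηW
      apply PrimeSpectrum.ext
      rw [hηq']
      exact le_antisymm h1 h2
    · rw [mem_support_iff_le_primeIdealOf 𝓩 W η hηW, hηq']
      exact hle
  have hex : ∃ n, ¬ 𝓩 ≤ 𝔢 ^ (n + 1) := by
    obtain ⟨N, hN⟩ := hbdd
    cases N with
    | zero =>
      exfalso
      apply hN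
      rw [pow_zero]
      exact (le_top : 𝓩 ≤ ⊤)
    | succ n => exact ⟨n, hN⟩
  classical
  have hv1 : ¬ 𝓩 ≤ 𝔢 ^ (Nat.find hex + 1) := Nat.find_spec hex
  have hv0 : 𝓩 ≤ 𝔢 ^ (Nat.find hex) := by
    rcases Nat.eq_zero_or_pos (Nat.find hex) with h0 | hpos
    · rw [h0, pow_zero]
      exact (le_top : 𝓩 ≤ ⊤)
    · have := Nat.find_min hex (Nat.pred_lt hpos.ne')
      push_neg at this
      rwa [Nat.pred_eq_sub_one, Nat.sub_add_cancel hpos] at this
  refine ⟨Nat.find hex, hv0, ?_⟩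
  generalize Nat.find hex = v at hv0 hv1
  have hc' : ∀ x : X, ∃ W : X.affineOpens, x ∈ W.1 ∧ ∃ f : Γ(X, W.1),
      f ∈ nonZeroDivisors Γ(X, W.1) ∧ 𝔢.ideal W = Ideal.span {f} := h𝔢
  choose W hxW f hf hfW using hc'
  have hcov : ⨆ x, (W x).1 = ⊤ := by
    rw [eq_top_iff]
    intro x _
    exact Opens.mem_iSup.2 ⟨x, hxW x⟩
  have hx : ∃ x, ¬ 𝓩.ideal (W x) ≤ (𝔢 ^ (v + 1)).ideal (W x) := by
    by_contra hcon
    push_neg at hcon
    exact hv1 (Scheme.IdealSheafData.le_of_iSup_eq_top W hcov hcon)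
  obtain ⟨x, hx⟩ := hx
  have e1 : (𝔢 ^ (v + 1)).ideal (W x) = Ideal.span {f x ^ (v + 1)} := by
    show (𝔢.ideal (W x)) ^ (v + 1) = _
    rw [hfW, Ideal.span_singleton_pow]
  have e0 : (𝔢 ^ v).ideal (W x) = Ideal.span {f x ^ v} := by
    show (𝔢.ideal (W x)) ^ v = _
    rw [hfW, Ideal.span_singleton_pow]
  have hξ : gp 𝔢 ∈ (W x).1 := by
    by_contra hξ
    apply hx
    have htop := ideal_eq_top_of_gp_notMem 𝔢 (W x) hξ
    show _ ≤ (𝔢.ideal (W x)) ^ (v + 1)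
    rw [htop, Ideal.top_pow]
    exact le_top
  have h1 : 𝓩.ideal (W x) ≤ Ideal.span {f x ^ v} := e0 ▸ hv0 (W x)
  have h2 : ¬ 𝓩.ideal (W x) ≤ Ideal.span {f x ^ (v + 1)} := e1 ▸ hx
  obtain ⟨s, hs1, hs2⟩ := exists_notMem_mul_pow_mem (f x) _ v h1 h2
  exact ⟨W x, f x, hξ, hf x, hfW x, s, hs1, hs2⟩

/-- **Sum of integral effective Cartier divisors inside a closed subscheme, iso off codimension 2.** -/
theorem exists_cartier_sum (X : Scheme.{u}) [IsNoetherian X] (𝓩 : X.IdealSheafData)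
    {I : Type u} (𝓓 : I → X.IdealSheafData) (hD : ∀ i, BlowUp.IsEffCartierIdeal (𝓓 i))
    (hDint : ∀ i, IsIntegral (𝓓 i).subscheme)
    (Z' : Set ↥X) (hZ' : IsClosed Z')
    (hcodim : ∀ z ∈ Z', (∀ y ∈ Z', y ⤳ z → y = z) →
      (2 : WithBot ℕ∞) ≤ ringKrullDim ↑(X.presheaf.stalk z))
    (hcover : (𝓩.support : Set ↥X) ⊆ Z' ∪ ⋃ i, ((𝓓 i).support : Set ↥X)) :
    ∃ a : I →₀ ℕ, 𝓩 ≤ a.prod (fun i n => 𝓓 i ^ n) ∧
      ∃ U : X.Opens, (a.prod (fun i n => 𝓓 i ^ n)).comap U.ι = 𝓩.comap U.ι ∧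
        ∀ z ∈ (𝓩.support : Set ↥X) \ (U : Set ↥X),
          (∀ y ∈ (𝓩.support : Set ↥X) \ (U : Set ↥X), y ⤳ z → y = z) →
          (2 : WithBot ℕ∞) ≤ ringKrullDim ↑(X.presheaf.stalk z) := by
  classical
  haveI := hDint
  -- no maximal point of `X` lies in `Z`
  have hZmax : ∀ η : X, (∀ y : X, y ⤳ η → y = η) → η ∉ 𝓩.support := by
    intro η hη hηZ
    rcases hcover hηZ with h | h
    · exact not_two_le_of_maximal η hη (hcodim η h (fun y _ hy => hη y hy))
    · obtain ⟨i, hi⟩ := Set.mem_iUnion.mp h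
      exact notMem_support_of_isEffCartierIdeal (𝓓 i) (hD i) η hη hi
  -- the generic points have local dimension ≤ 1
  have hdim1 : ∀ i, ¬ (2 : WithBot ℕ∞) ≤ ringKrullDim (X.presheaf.stalk (gp (𝓓 i))) := by
    intro i
    obtain ⟨W, hξW, f, hf, hfW⟩ := hD i (gp (𝓓 i))
    haveI : IsNoetherianRing Γ(X, W.1) := IsLocallyNoetherian.component_noetherian W
    rw [ringKrullDim_stalk_eq_height W.2 (gp (𝓓 i)) hξW]
    have e2 := ideal_eq_primeIdealOf (𝓓 i) W _ hξW rfl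
    have hp := isPrime_ideal_of_gp_mem (𝓓 i) W hξW
    rw [hfW] at e2 hp
    haveI := hp
    have hmin : (W.2.primeIdealOf ⟨gp (𝓓 i), hξW⟩).asIdeal ∈ (Ideal.span {f}).minimalPrimes := by
      rw [← e2, Ideal.minimalPrimes_eq_subsingleton_self]
      exact Set.mem_singleton _
    haveI : (Ideal.span {f}).IsPrincipal := ⟨⟨f, rfl⟩⟩
    have hle := Ideal.height_le_one_of_isPrincipal_of_mem_minimalPrimes (Ideal.span {f}) _ hmin
    intro h2
    have h3 : ((2 : ℕ∞) : WithBot ℕ∞) ≤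
        (((W.2.primeIdealOf ⟨gp (𝓓 i), hξW⟩).asIdeal.height : ℕ∞) : WithBot ℕ∞) := h2
    have h4 : (2 : ℕ∞) ≤ 1 := le_trans (WithBot.coe_le_coe.mp h3) hle
    simp at h4
  -- generic points lying in `Z` are maximal points of `Z`
  have hmaxpt : ∀ i, gp (𝓓 i) ∈ 𝓩.support →
      ∀ y ∈ (𝓩.support : Set X), y ⤳ gp (𝓓 i) → y = gp (𝓓 i) := by
    intro i _ y hy hyξ
    rcases hcover hy with h | h
    · exfalso
      obtain ⟨z', hz'Z, hz'y, hz'max⟩ := exists_maximal_generization_in hZ' h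
      have h2 := hcodim z' hz'Z hz'max
      exact hdim1 i (le_trans h2 (ringKrullDim_stalk_mono (hz'y.trans hyξ)))
    · obtain ⟨j, hj⟩ := Set.mem_iUnion.mp h
      have h1 : gp (𝓓 j) ⤳ y := (mem_support_iff_gp_specializes (𝓓 j) y).mp hj
      have h2 : gp (𝓓 i) ∈ (𝓓 j).support :=
        (mem_support_iff_gp_specializes (𝓓 j) _).mpr (h1.trans hyξ)
      have h3 : 𝓓 j = 𝓓 i := eq_of_gp_mem_support (𝓓 j) (𝓓 i) (hD j) (hD i) h2
      have h4 : gp (𝓓 j) = gp (𝓓 i) := gp_congr h3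
      rw [h4] at h1
      exact (h1.antisymm hyξ).eq.symm
  -- finiteness and choice of representatives
  let G : Set X := (fun j => gp (𝓓 j)) '' {j | gp (𝓓 j) ∈ 𝓩.support}
  have hGfin : G.Finite := by
    refine (finite_maximal_points (Z := (𝓩.support : Set X)) 𝓩.support.isClosed).subset ?_
    rintro _ ⟨j, hj, rfl⟩
    exact ⟨hj, hmaxpt j hj⟩
  have hc : ∀ x : X, x ∈ G → ∃ j, gp (𝓓 j) ∈ 𝓩.support ∧ gp (𝓓 j) = x := by
    rintro _ ⟨j, hj, rfl⟩
    exact ⟨j, hj, rfl⟩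
  choose c hc1 hc2 using hc
  let T : Finset I := hGfin.toFinset.attach.image
    (fun x => c x.1 (hGfin.mem_toFinset.mp x.2))
  have hTb : ∀ j, gp (𝓓 j) ∈ 𝓩.support → ∃ i ∈ T, gp (𝓓 i) = gp (𝓓 j) := by
    intro j hj
    have hjG : gp (𝓓 j) ∈ G := ⟨j, hj, rfl⟩
    refine ⟨c _ hjG, ?_, hc2 _ hjG⟩
    exact Finset.mem_image.mpr ⟨⟨gp (𝓓 j), hGfin.mem_toFinset.mpr hjG⟩, Finset.mem_attach _ _, rfl⟩
  have hTc : ∀ i ∈ T, ∀ i' ∈ T, gp (𝓓 i) = gp (𝓓 i') → i = i' := by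
    intro i hi i' hi' h
    obtain ⟨⟨x, hx⟩, -, rfl⟩ := Finset.mem_image.mp hi
    obtain ⟨⟨x', hx'⟩, -, rfl⟩ := Finset.mem_image.mp hi'
    simp only at h ⊢
    rw [hc2 x (hGfin.mem_toFinset.mp hx), hc2 x' (hGfin.mem_toFinset.mp hx')] at h
    subst h
    rfl
  -- valuations
  have hv := fun i => exists_val 𝓩 (𝓓 i) (hD i) hZmax
  choose v hv0 Wv fv hξWv hfv hfWv s hs1 hs2 using hv
  let a : I →₀ ℕ := ∑ i ∈ T, Finsupp.single i (v i)
  have hprod : a.prod (fun i n => 𝓓 i ^ n) = ∏ i ∈ T, 𝓓 i ^ v i := by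
    show (∑ i ∈ T, Finsupp.single i (v i)).prod (fun i n => 𝓓 i ^ n) = _
    rw [← Finsupp.prod_finset_sum_index (fun i => pow_zero _) (fun i m n => pow_add _ _ _)]
    refine Finset.prod_congr rfl (fun i _ => ?_)
    exact Finsupp.prod_single_index (h := fun i n => 𝓓 i ^ n) (pow_zero _)
  -- containment
  have hA' : ∀ T' : Finset I, (∀ i ∈ T', i ∈ T) → 𝓩 ≤ ∏ i ∈ T', 𝓓 i ^ v i := by
    intro T'
    induction T' using Finset.induction_on with
    | empty =>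
      intro _
      rw [Finset.prod_empty]
      exact (le_top : 𝓩 ≤ ⊤)
    | insert j T' hj ih =>
      intro hsub
      rw [Finset.prod_insert hj, mul_comm]
      refine le_mul_pow 𝓩 (∏ i ∈ T', 𝓓 i ^ v i) (𝓓 j)
        (isEffCartierIdeal_finset_prod T' _ (fun i _ => isEffCartierIdeal_pow _ (hD i) _)) (hD j) ?_
        (v j) (ih (fun i hi => hsub i (Finset.mem_insert_of_mem hi))) (hv0 j)
      apply notMem_support_finset_prod
      intro i hi
      apply notMem_support_pow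
      intro hmem
      have h3 := eq_of_gp_mem_support (𝓓 i) (𝓓 j) (hD i) (hD j) hmem
      have hij : i = j := hTc i (hsub i (Finset.mem_insert_of_mem hi)) j
        (hsub j (Finset.mem_insert_self j T')) (gp_congr h3)
      exact hj (hij ▸ hi)
  have hA : 𝓩 ≤ ∏ i ∈ T, 𝓓 i ^ v i := hA' T (fun i hi => hi)
  have hDeff : BlowUp.IsEffCartierIdeal (∏ i ∈ T, 𝓓 i ^ v i) :=
    isEffCartierIdeal_finset_prod T _ (fun i _ => isEffCartierIdeal_pow _ (hD i) _)
  have hft := isFiniteTypeIdeal_of_isEffCartierIdeal hDeff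
  let C := colon 𝓩 (∏ i ∈ T, 𝓓 i ^ v i) hft
  let U : X.Opens := ⟨(C.support : Set X)ᶜ, C.support.isClosed.isOpen_compl⟩
  refine ⟨a, hprod ▸ hA, U, ?_, ?_⟩
  · rw [hprod]
    apply Scheme.IdealSheafData.ext
    funext V
    rw [Scheme.IdealSheafData.ideal_comap_of_isOpenImmersion,
      Scheme.IdealSheafData.ideal_comap_of_isOpenImmersion]
    congr 1
    have hWU : ∀ x ∈ (U.ι ''ᵁ V.1 : X.Opens), x ∉ C.support := by
      rintro x ⟨y, -, rfl⟩
      exact y.2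
    have htop := ideal_eq_top_of_disjoint C ⟨U.ι ''ᵁ V.1, V.2.image_of_isOpenImmersion U.ι⟩ hWU
    apply le_antisymm
    · intro e he
      have h1 : (1 : Γ(X, U.ι ''ᵁ V.1)) ∈
          C.ideal ⟨U.ι ''ᵁ V.1, V.2.image_of_isOpenImmersion U.ι⟩ := by
        rw [htop]; trivial
      have := (mem_col.mp h1) e he
      simpa using this
    · exact hA _
  · rintro z ⟨hzZ, hzU⟩ -
    have hzC : z ∈ C.support := by
      by_contra h
      exact hzU h
    by_contra hdim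
    rcases hcover hzZ with h | h
    · obtain ⟨z', hz'Z, hz'z, hz'max⟩ := exists_maximal_generization_in hZ' h
      exact hdim (le_trans (hcodim z' hz'Z hz'max) (ringKrullDim_stalk_mono hz'z))
    · obtain ⟨j, hj⟩ := Set.mem_iUnion.mp h
      have hspec : gp (𝓓 j) ⤳ z := (mem_support_iff_gp_specializes (𝓓 j) z).mp hj
      by_cases hne : gp (𝓓 j) = z
      · subst hne
        obtain ⟨i, hiT, hiξ⟩ := hTb j hzZ
        have hξW : gp (𝓓 j) ∈ (Wv i).1 := hiξ ▸ hξWv i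
        have hle : (∏ i ∈ T, 𝓓 i ^ v i) ≤ 𝓓 i ^ v i := by
          rw [← Finset.mul_prod_erase T _ hiT]
          intro W'
          show (𝓓 i ^ v i).ideal W' * _ ≤ _
          exact Ideal.mul_le_left
        have hsC : s i ∈ C.ideal (Wv i) := by
          rw [colon_ideal, mem_col]
          intro e he
          have he' : e ∈ Ideal.span {fv i ^ v i} := by
            have := hle (Wv i) he
            have e0 : (𝓓 i ^ v i).ideal (Wv i) = Ideal.span {fv i ^ v i} := by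
              show ((𝓓 i).ideal (Wv i)) ^ v i = _
              rw [hfWv, Ideal.span_singleton_pow]
            rwa [e0] at this
          obtain ⟨h', rfl⟩ := Ideal.mem_span_singleton'.mp he'
          have : s i * (h' * fv i ^ v i) = h' * (s i * fv i ^ v i) := by ring
          rw [this]
          exact Ideal.mul_mem_left _ _ (hs2 i)
        have e2 := ideal_eq_primeIdealOf (𝓓 i) (Wv i) (gp (𝓓 j)) hξW hiξ
        rw [hfWv] at e2
        have hzC' := (mem_support_iff_le_primeIdealOf C (Wv i) (gp (𝓓 j)) hξW).mp hzC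
        exact hs1 i (e2 ▸ hzC' hsC)
      · obtain ⟨W, hzW, f, hf, hfW⟩ := hD j z
        have hξW : gp (𝓓 j) ∈ W.1 := hspec.mem_open W.1.2 hzW
        apply hdim
        refine two_le_of_specializes_ne hspec hne W.2 hzW hξW f hf ?_
        have e2 := ideal_eq_primeIdealOf (𝓓 j) W _ hξW rfl
        rw [← e2, hfW]
        exact Ideal.mem_span_singleton_self f

end H16CartSum
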